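/-
Semilinear automorphisms of the projective line in the standard charts.
-/
import Groth.Agent.Lib.EssDim28.P1Pts

set_option autoImplicit false
set_option linter.style.haveILetI false
set_option backward.isDefEq.respectTransparency false

universe u

open CategoryTheory CategoryTheory.Limits AlgebraicGeometry MvPolynomial HomogeneousLocalization

namespace Groth.Agent.ConicDesc28

open Groth.Agent.ProjSpace Groth.Agent.GrassLib Groth.Agent.EssDim28

variable {R S : Type u} [CommRing R] [CommRing S]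

/-- A graded ring map moves the chart `i` to the chart `j` by the obvious substitution. -/
theorem chartP_comp_map {n : ℕ} (φ : CohB1.polyGrading n R →+*ᵍ CohB1.polyGrading n S)
    (hφ : HomogeneousIdeal.irrelevant (CohB1.polyGrading n S) ≤
      (HomogeneousIdeal.irrelevant (CohB1.polyGrading n R)).map φ)
    (τ : R →+* S) (hC : ∀ r, φ (C r) = C (τ r)) (i j : Fin (n + 1)) (c : R)
    (h : φ (X j * C c) = X i) :
    chartP n S i ≫ Proj.map φ hφ =
      Spec.map (CommRingCat.ofHom (eval₂Hom ((C : S →+* MvPolynomial {r : Fin (n + 1) // r ≠ i} S).comp τ)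
        (fun r : {r : Fin (n + 1) // r ≠ j} => dehom S i (φ (X r.1 * C c))))) ≫ chartP n R j := by
  classical
  let A := MvPolynomial {r : Fin (n + 1) // r ≠ i} S
  have hcj : (C c : MvPolynomial (Fin (n + 1)) R) ∈ CohB1.polyGrading n R 0 := isHomogeneous_C _ c
  have hv : (X j * C c : MvPolynomial (Fin (n + 1)) R) ∈ CohB1.polyGrading n R 1 :=
    (isHomogeneous_X R j).mul (isHomogeneous_C _ c)
  have key : ∀ (w : MvPolynomial (Fin (n + 1)) S) (hw : w ∈ CohB1.polyGrading n S 1), φ (X j * C c) = w →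
      ∀ g : Away (CohB1.polyGrading n S) w →+* A,
      ∃ g' : Away (CohB1.polyGrading n R) (X j * C c) →+* A,
        (∀ (m : ℕ) (a : MvPolynomial (Fin (n + 1)) R) (ha : a ∈ CohB1.polyGrading n R (m • 1)),
          g' (Away.mk (CohB1.polyGrading n R) hv m a ha) = g (Away.mk (CohB1.polyGrading n S) hw m (φ a) (φ.2 ha))) ∧
        Spec.map (CommRingCat.ofHom g) ≫ Proj.awayι (CohB1.polyGrading n S) w hw Nat.one_pos ≫ Proj.map φ hφ =
          Spec.map (CommRingCat.ofHom g') ≫ Proj.awayι (CohB1.polyGrading n R) (X j * C c) hv Nat.one_pos := by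
    rintro w hw rfl g
    refine ⟨g.comp (Away.map φ _), fun m a ha => ?_, ?_⟩
    · rw [RingHom.comp_apply]
      exact congrArg g (Away.map_mk φ _ hv m a ha)
    · rw [Proj.awayι_comp_map φ hφ Nat.one_pos _ hv, CommRingCat.ofHom_comp, Spec.map_comp, Category.assoc]
  obtain ⟨g', hg', hsq⟩ := key (X i) (X_mem' n S i) h (chartEquiv S i).symm.toRingHom
  unfold chartP
  rw [Category.assoc, hsq,
    ← Proj.SpecMap_awayMap_awayι (CohB1.polyGrading n R) (X_mem' n R j) Nat.one_pos hcj
      (rfl : (X j * C c : MvPolynomial (Fin (n + 1)) R) = X j * C c),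
    ← Category.assoc, ← Category.assoc, ← Spec.map_comp, ← Spec.map_comp, ← CommRingCat.ofHom_comp,
    ← CommRingCat.ofHom_comp]
  congr 1
  congr 1
  congr 1
  have hmk : ∀ (m : ℕ) (a : MvPolynomial (Fin (n + 1)) R) (ha : a ∈ CohB1.polyGrading n R (m • 1)),
      g' (awayMap (CohB1.polyGrading n R) hcj (rfl : (X j * C c : MvPolynomial (Fin (n + 1)) R) = X j * C c)
        (Away.mk (CohB1.polyGrading n R) (X_mem' n R j) m a ha)) = dehom S i (φ (a * C c ^ m)) := by
    intro m a ha
    have ha' : a * C c ^ m ∈ CohB1.polyGrading n R (m • 1) := by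
      have := IsHomogeneous.mul (show a.IsHomogeneous (m • 1) from ha) ((isHomogeneous_C (Fin (n + 1)) c).pow m)
      simpa using this
    have e : awayMap (CohB1.polyGrading n R) hcj (rfl : (X j * C c : MvPolynomial (Fin (n + 1)) R) = X j * C c)
        (Away.mk (CohB1.polyGrading n R) (X_mem' n R j) m a ha) =
        Away.mk (CohB1.polyGrading n R) hv m (a * C c ^ m) ha' := by
      refine HomogeneousLocalization.val_injective _ ?_
      exact (val_awayMap_mk ..).trans (Away.val_mk ..).symm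
    rw [e, hg']
    exact ofAway_mk S i m _ _
  refine RingHom.ext fun z => ?_
  obtain ⟨p, rfl⟩ := (chartEquiv R j).surjective z
  rw [RingHom.comp_apply, RingHom.comp_apply]
  change _ = (eval₂Hom _ _) ((chartEquiv R j).symm (chartEquiv R j p))
  rw [RingEquiv.symm_apply_apply, chartEquiv_apply]
  induction p using MvPolynomial.induction_on with
  | C r =>
    rw [toAway_C, eval₂Hom_C]
    have hc0 : const R j r = Away.mk (CohB1.polyGrading n R) (X_mem' n R j) 0 (C r) (isHomogeneous_C _ r) := by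
      refine HomogeneousLocalization.val_injective _ ?_
      refine (val_const R j r).trans (Eq.trans ?_ (Away.val_mk ..).symm)
      rw [← Localization.mk_one_eq_algebraMap]
      congr 1
    exact (congrArg g' (congrArg _ hc0)).trans ((hmk 0 (C r) _).trans (by
      rw [pow_zero, mul_one, hC, dehom_C]; rfl))
  | add a b ha hb => simp only [map_add, ha, hb]
  | mul_X a r ha =>
    simp only [map_mul, ha, eval₂Hom_X']
    congr 1
    rw [toAway_X, coord_eq_mk]
    exact (hmk 1 (X r.1) _).trans (by rw [pow_one, map_mul, map_mul])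

theorem swap_isHomogeneous (b : S) (l : Fin 2) :
    (![C b * X 1, X 0] l : MvPolynomial (Fin 2) S).IsHomogeneous 1 := by
  fin_cases l
  · exact (isHomogeneous_X S (1 : Fin 2)).C_mul b
  · exact isHomogeneous_X S (0 : Fin 2)

/-- `X₀ ↦ b X₁`, `X₁ ↦ X₀`, coefficients through `τ`. -/
noncomputable def swapHom (τ : R →+* S) (b : S) : CohB1.polyGrading 1 R →+*ᵍ CohB1.polyGrading 1 S where
  __ := eval₂Hom ((C : S →+* MvPolynomial (Fin 2) S).comp τ) ![C b * X 1, X 0]
  map_mem {d p} hp := by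
    have h := IsHomogeneous.eval₂ (n := 1) (show p.IsHomogeneous d from hp)
      ((C : S →+* MvPolynomial (Fin 2) S).comp τ) (![C b * X 1, X 0])
      (fun r => isHomogeneous_C _ _) (swap_isHomogeneous b)
    show (eval₂ ((C : S →+* MvPolynomial (Fin 2) S).comp τ) ![C b * X 1, X 0] p).IsHomogeneous d
    simpa using h

theorem swapHom_C (τ : R →+* S) (b : S) (r : R) : swapHom τ b (C r) = C (τ r) :=
  eval₂Hom_C _ _ r

theorem swapHom_X0 (τ : R →+* S) (b : S) : swapHom τ b (X 0) = C b * X 1 :=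
  (eval₂Hom_X' _ _ (0 : Fin 2)).trans rfl

theorem swapHom_X1 (τ : R →+* S) (b : S) : swapHom τ b (X 1) = X 0 :=
  (eval₂Hom_X' _ _ (1 : Fin 2)).trans rfl

theorem swap_irrelevant (τ : R →+* S) (b : S) (c : R) (hc : τ c * b = 1) :
    HomogeneousIdeal.irrelevant (CohB1.polyGrading 1 S) ≤
      (HomogeneousIdeal.irrelevant (CohB1.polyGrading 1 R)).map (swapHom τ b) := by
  rw [← toIdeal_le_toIdeal_iff, HomogeneousIdeal.toIdeal_map]
  refine (irrelevant_le_span 1 S).trans (Ideal.span_le.2 ?_)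
  have h : ∀ l : Fin 2, swapHom τ b (X l) ∈
      Ideal.map (swapHom τ b) (HomogeneousIdeal.irrelevant (CohB1.polyGrading 1 R)).toIdeal := fun l =>
    Ideal.mem_map_of_mem _ (HomogeneousIdeal.mem_irrelevant_of_mem _ Nat.one_pos (X_mem' 1 R l))
  rintro _ ⟨i, rfl⟩
  fin_cases i
  · have h1 := h 1
    rw [swapHom_X1] at h1
    exact h1
  · have e : (X 1 : MvPolynomial (Fin 2) S) = C (τ c) * swapHom τ b (X 0) := by
      rw [swapHom_X0, ← mul_assoc, ← C_mul, hc, C_1, one_mul]
    show (X 1 : MvPolynomial (Fin 2) S) ∈ _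
    rw [e]
    exact Ideal.mul_mem_left _ _ (h 0)

/-- The semilinear map `z ↦ b / z` of the projective line. -/
noncomputable def swapMap (τ : R →+* S) (b : S) (c : R) (hc : τ c * b = 1) :
    CohB1.ProjSpace 1 S ⟶ CohB1.ProjSpace 1 R :=
  Proj.map (swapHom τ b) (swap_irrelevant τ b c hc)

/-- The chart rings. -/
abbrev CR (S : Type u) [CommRing S] (i : Fin 2) := MvPolynomial {r : Fin 2 // r ≠ i} S

/-- The coordinate of a chart. -/
noncomputable def tc (S : Type u) [CommRing S] (i : Fin 2) : CR S i :=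
  X ⟨i + 1, by fin_cases i <;> decide⟩

theorem X_eq_tc (i : Fin 2) (r : {r : Fin 2 // r ≠ i}) : (X r : CR S i) = tc S i := by
  unfold tc
  congr 1
  apply Subtype.ext
  obtain ⟨r, hr⟩ := r
  fin_cases i <;> fin_cases r <;> first | rfl | exact absurd rfl hr

theorem CR_ringHom_ext {T : Type*} [CommRing T] {i : Fin 2} {f g : CR S i →+* T}
    (hC : ∀ r, f (C r) = g (C r)) (ht : f (tc S i) = g (tc S i)) : f = g :=
  MvPolynomial.ringHom_ext hC fun r => by rw [X_eq_tc]; exact ht

/-- The semilinear substitution `t ↦ a t` from the chart `j` to the chart `i`. -/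
noncomputable def scal (τ : R →+* S) (i j : Fin 2) (a : S) : CR R j →+* CR S i :=
  eval₂Hom ((C : S →+* CR S i).comp τ) fun _ => C a * tc S i

theorem scal_C (τ : R →+* S) (i j : Fin 2) (a : S) (r : R) : scal τ i j a (C r) = C (τ r) :=
  eval₂Hom_C _ _ r

theorem scal_tc (τ : R →+* S) (i j : Fin 2) (a : S) : scal τ i j a (tc R j) = C a * tc S i :=
  eval₂Hom_X' _ _ _

theorem scal_comp {T : Type u} [CommRing T] (τ : R →+* S) (τ' : S →+* T) (i j l : Fin 2) (a : S) (a' : T) :
    (scal τ' l i a').comp (scal τ i j a) = scal (τ'.comp τ) l j (τ' a * a') :=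
  CR_ringHom_ext (fun r => by simp only [RingHom.comp_apply, scal_C])
    (by simp only [RingHom.comp_apply, scal_tc, map_mul, scal_C, mul_assoc])

theorem scal_id (i : Fin 2) : scal (RingHom.id R) i i 1 = RingHom.id (CR R i) :=
  CR_ringHom_ext (fun r => by rw [scal_C]; rfl) (by rw [scal_tc, C_1, one_mul]; rfl)

/-- The morphism of charts given by `scal`. -/
noncomputable def scalMor (τ : R →+* S) (i j : Fin 2) (a : S) :
    Spec (CommRingCat.of (CR S i)) ⟶ Spec (CommRingCat.of (CR R j)) :=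
  Spec.map (CommRingCat.ofHom (scal τ i j a))

theorem scalMor_comp {T : Type u} [CommRing T] (τ : R →+* S) (τ' : S →+* T) (i j l : Fin 2) (a : S) (a' : T) :
    scalMor τ' l i a' ≫ scalMor τ i j a = scalMor (τ'.comp τ) l j (τ' a * a') := by
  rw [scalMor, scalMor, scalMor, ← Spec.map_comp, ← CommRingCat.ofHom_comp, scal_comp]

theorem eval_eq_scal (τ : R →+* S) (i j : Fin 2) (a : S) (f : {r : Fin 2 // r ≠ j} → CR S i)
    (hf : ∀ r, f r = C a * tc S i) :
    eval₂Hom ((C : S →+* CR S i).comp τ) f = scal τ i j a := by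
  rw [funext hf]; rfl

theorem chart_swapMap_zero (τ : R →+* S) (b : S) (c : R) (hc : τ c * b = 1) :
    chartP 1 S 0 ≫ swapMap τ b c hc = scalMor τ 0 1 b ≫ chartP 1 R 1 := by
  rw [swapMap, chartP_comp_map (swapHom τ b) _ τ (swapHom_C τ b) 0 1 1 (by rw [C_1, mul_one, swapHom_X1]),
    eval_eq_scal τ 0 1 b _ fun r => ?_]
  · rfl
  · obtain ⟨r, hr⟩ := r
    have : r = 0 := by omega
    subst this
    show dehom S 0 (swapHom τ b (X 0 * C 1)) = _
    rw [C_1, mul_one, swapHom_X0, map_mul, dehom_C]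
    congr 1
    exact dehom_X S 0 ⟨1, by decide⟩

theorem chart_swapMap_one (τ : R →+* S) (b : S) (c : R) (hc : τ c * b = 1) :
    chartP 1 S 1 ≫ swapMap τ b c hc = scalMor τ 1 0 (τ c) ≫ chartP 1 R 0 := by
  rw [swapMap, chartP_comp_map (swapHom τ b) _ τ (swapHom_C τ b) 1 0 c (by
      rw [map_mul, swapHom_X0, swapHom_C, mul_right_comm, ← C_mul, mul_comm b, hc, C_1, one_mul]),
    eval_eq_scal τ 1 0 (τ c) _ fun r => ?_]
  · rfl
  · obtain ⟨r, hr⟩ := r
    have : r = 1 := by omega
    subst this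
    show dehom S 1 (swapHom τ b (X 1 * C c)) = _
    rw [map_mul, swapHom_X1, swapHom_C, map_mul, dehom_C, mul_comm]
    congr 1
    exact dehom_X S 1 ⟨0, by decide⟩

theorem chart_map (f : R →+* S) (i : Fin 2) :
    chartP 1 S i ≫ ProjSpace.map 1 f = scalMor f i i 1 ≫ chartP 1 R i := by
  rw [ProjSpace.map, chartP_comp_map (mapHom 1 f) _ f (fun r => by rw [mapHom_apply, map_C]) i i 1
      (by rw [C_1, mul_one, mapHom_X]),
    eval_eq_scal f i i 1 _ fun r => ?_]
  · rfl
  · rw [C_1, mul_one, mapHom_X, C_1, one_mul, dehom_X, X_eq_tc]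

theorem P1_hom_ext {Z : Scheme.{u}} {f g : CohB1.ProjSpace 1 S ⟶ Z}
    (h0 : chartP 1 S 0 ≫ f = chartP 1 S 0 ≫ g) (h1 : chartP 1 S 1 ≫ f = chartP 1 S 1 ≫ g) : f = g := by
  refine Scheme.Cover.hom_ext (ProjSpace.cover 1 S) _ _ fun i => ?_
  obtain ⟨i⟩ := i
  show chartP 1 S i ≫ f = chartP 1 S i ≫ g
  fin_cases i
  · exact h0
  · exact h1

theorem scalMor_one (i : Fin 2) : scalMor (RingHom.id R) i i 1 = 𝟙 _ := by
  rw [scalMor, scal_id]
  exact Spec.map_id _

theorem scalMor_spec_C (τ : R →+* S) (i j : Fin 2) (a : S) :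
    scalMor τ i j a ≫ Spec.map (CommRingCat.ofHom (C : R →+* CR R j)) =
      Spec.map (CommRingCat.ofHom (C : S →+* CR S i)) ≫ Spec.map (CommRingCat.ofHom τ) := by
  rw [scalMor, ← Spec.map_comp, ← Spec.map_comp, ← CommRingCat.ofHom_comp, ← CommRingCat.ofHom_comp]
  congr 2
  exact RingHom.ext fun r => scal_C τ i j a r

theorem swapMap_toSpec (τ : R →+* S) (b : S) (c : R) (hc : τ c * b = 1) :
    swapMap τ b c hc ≫ CohB1.ProjSpace.toSpec 1 R =
      CohB1.ProjSpace.toSpec 1 S ≫ Spec.map (CommRingCat.ofHom τ) := by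
  have e : ∀ (T : Type u) [CommRing T] (i : Fin 2), chartP 1 T i ≫ CohB1.ProjSpace.toSpec 1 T =
      Spec.map (CommRingCat.ofHom (C : T →+* CR T i)) := fun T _ i => chart_toSpec 1 T i
  refine P1_hom_ext ?_ ?_
  · rw [← Category.assoc, chart_swapMap_zero, Category.assoc, e, scalMor_spec_C, ← Category.assoc, e]
  · rw [← Category.assoc, chart_swapMap_one, Category.assoc, e, scalMor_spec_C, ← Category.assoc, e]

theorem swapMap_comp_self (τ : R →+* R) (b c : R) (hc : τ c * b = 1) (hτ : τ.comp τ = RingHom.id R)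
    (hb : τ b = b) : swapMap τ b c hc ≫ swapMap τ b c hc = 𝟙 _ := by
  have hττ : τ (τ c) = c := RingHom.congr_fun hτ c
  have h2 : c * b = 1 := by
    have := congrArg τ hc
    rwa [map_mul, hττ, hb, map_one] at this
  refine P1_hom_ext ?_ ?_
  · rw [← Category.assoc, chart_swapMap_zero, Category.assoc, chart_swapMap_one, ← Category.assoc,
      scalMor_comp, hτ, hττ, h2, scalMor_one, Category.id_comp]
    exact (Category.comp_id _).symm
  · rw [← Category.assoc, chart_swapMap_one, Category.assoc, chart_swapMap_zero, ← Category.assoc,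
      scalMor_comp, hτ, hb, mul_comm b, hc, scalMor_one, Category.id_comp]
    exact (Category.comp_id _).symm

theorem swapMap_natural {K : Type u} [CommRing K] (f : K →+* R) (τ : R →+* R) (τ₀ : K →+* K)
    (hf : τ.comp f = f.comp τ₀) (b c : R) (hc : τ c * b = 1) (b₀ c₀ : K) (hc₀ : τ₀ c₀ * b₀ = 1)
    (hb : f b₀ = b) :
    swapMap τ b c hc ≫ ProjSpace.map 1 f = ProjSpace.map 1 f ≫ swapMap τ₀ b₀ c₀ hc₀ := by
  have hu : τ c = f (τ₀ c₀) := by
    have h1 : f (τ₀ c₀) * b = 1 := by rw [← hb, ← map_mul, hc₀, map_one]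
    calc τ c = τ c * (f (τ₀ c₀) * b) := by rw [h1, mul_one]
      _ = f (τ₀ c₀) * (τ c * b) := by ring
      _ = f (τ₀ c₀) := by rw [hc, mul_one]
  refine P1_hom_ext ?_ ?_
  · rw [← Category.assoc, chart_swapMap_zero, Category.assoc, chart_map, ← Category.assoc, scalMor_comp,
      ← Category.assoc (chartP 1 R 0), chart_map, Category.assoc, chart_swapMap_zero, ← Category.assoc,
      scalMor_comp, hf, map_one, one_mul, mul_one, hb]
  · rw [← Category.assoc, chart_swapMap_one, Category.assoc, chart_map, ← Category.assoc, scalMor_comp,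
      ← Category.assoc (chartP 1 R 1), chart_map, Category.assoc, chart_swapMap_one, ← Category.assoc,
      scalMor_comp, hf, map_one, one_mul, mul_one, hu]

end Groth.Agent.ConicDesc28
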