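/-
Semilinear involutions of the line exchanging the two standard points.
-/
import Groth.Agent.Lib.ConicDesc28.Charts
import Mathlib.Algebra.MvPolynomial.Nilpotent

set_option autoImplicit false
set_option linter.style.haveILetI false
set_option backward.isDefEq.respectTransparency false

universe u

open CategoryTheory CategoryTheory.Limits AlgebraicGeometry MvPolynomial

namespace Groth.Agent.ConicDesc28

open Groth.Agent.ProjSpace Groth.Agent.GrassLib Groth.Agent.EssDim28

variable {L : Type u} [Field L]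

/-- Evaluation of a chart coordinate. -/
noncomputable def evalAt (i : Fin 2) (x : L) : CR L i →+* L := eval₂Hom (RingHom.id L) fun _ => x

theorem evalAt_C (i : Fin 2) (x r : L) : evalAt i x (C r) = r := eval₂Hom_C _ _ r

theorem evalAt_tc (i : Fin 2) (x : L) : evalAt i x (tc L i) = x := eval₂Hom_X' _ _ _

theorem vecMor_eq_evalAt (i : Fin 2) (F : Fin 2 → L) (x : L) (hx : ∀ r, r ≠ i → F r = x) :
    vecMor (R := L) i F = Spec.map (CommRingCat.ofHom (evalAt i x)) ≫ chartP 1 L i := by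
  have e : (MvPolynomial.aeval fun r : {r : Fin 2 // r ≠ i} => F r.1).toRingHom = evalAt i x :=
    CR_ringHom_ext (fun r => by simp [evalAt]) (by
      rw [evalAt_tc, tc]
      exact (aeval_X _ _).trans (hx _ (by fin_cases i <;> decide)))
  rw [← e]
  rfl

theorem exists_eq_C_add_tc_mul (i : Fin 2) (p : CR L i) : ∃ w, p = C (evalAt i 0 p) + tc L i * w := by
  induction p using MvPolynomial.induction_on with
  | C r => exact ⟨0, by rw [evalAt_C, mul_zero, add_zero]⟩
  | add p q hp hq =>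
    obtain ⟨w, hw⟩ := hp
    obtain ⟨w', hw'⟩ := hq
    refine ⟨w + w', ?_⟩
    rw [map_add, C_add, mul_add]
    linear_combination hw + hw'
  | mul_X p r hp =>
    refine ⟨p, ?_⟩
    rw [X_eq_tc, map_mul, evalAt_tc, mul_zero, C_0, zero_add, mul_comm]

/-- The only point outside a standard chart is the standard point. -/
theorem eq_stdPt_point {s t : Fin 2} (hst : s ≠ t) (z : CohB1.ProjSpace 1 L)
    (hz : z ∉ Proj.basicOpen (CohB1.polyGrading 1 L) (X s)) :
    z = stdPt L L t (IsLocalRing.closedPoint L) := by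
  let P := CohB1.ProjSpace 1 L
  let k' := P.residueField z
  obtain ⟨f, hf⟩ := Spec.map_surjective (P.fromSpecResidueField z ≫ CohB1.ProjSpace.toSpec 1 L)
  letI : Algebra L k' := f.hom.toAlgebra
  have hσ := eq_stdPt (R := L) (L := k') hst (P.fromSpecResidueField z) hf.symm
    (fun h => hz ((congrArg (· ∈ Proj.basicOpen (CohB1.polyGrading 1 L) (X s)) (Scheme.fromSpecResidueField_apply z _)).mp h))
  have h1 : stdPt L k' t = Spec.map (CommRingCat.ofHom (algebraMap L k')) ≫ stdPt L L t := by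
    have h := sp_vecMor (R := L) (Algebra.ofId L k') t (unitVec L t)
    have e : (fun r => Algebra.ofId L k' (unitVec L t r)) = unitVec k' t := by
      funext r
      simp [unitVec, apply_ite]
    rw [e] at h
    exact h.symm
  have h2 := congrArg (fun φ : Spec (CommRingCat.of k') ⟶ CohB1.ProjSpace 1 L => φ (IsLocalRing.closedPoint k'))
    (hσ.trans h1)
  simp only [Scheme.Hom.comp_apply] at h2
  refine (Scheme.fromSpecResidueField_apply z (IsLocalRing.closedPoint k')).symm.trans (h2.trans ?_)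
  exact congrArg _ (Subsingleton.elim (α := PrimeSpectrum L) _ _)

theorem stdPt_notMem_range_chart {s t : Fin 2} (hst : s ≠ t) (w : Spec (CommRingCat.of (CR L s))) :
    chartP 1 L s w ≠ stdPt L L t (IsLocalRing.closedPoint L) := by
  intro h
  refine notMem_stdPt (R := L) hst (IsLocalRing.closedPoint L) ?_
  rw [← h, ← ProjSpace.opensRange_chart]
  exact ⟨w, rfl⟩

theorem mem_range_chart {s t : Fin 2} (hst : s ≠ t) {z : CohB1.ProjSpace 1 L}
    (hz : z ≠ stdPt L L t (IsLocalRing.closedPoint L)) : z ∈ Set.range (chartP 1 L s) := by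
  by_contra h
  refine hz (eq_stdPt_point hst z fun h' => h ?_)
  rw [← ProjSpace.opensRange_chart] at h'
  exact h'

theorem ker_evalAt_le {i j : Fin 2} (ψ : CR L j →+* CR L i)
    (hpt : (Spec.map (CommRingCat.ofHom ψ)) (Spec.map (CommRingCat.ofHom (evalAt i (0 : L)))
        (IsLocalRing.closedPoint L)) =
      Spec.map (CommRingCat.ofHom (evalAt j (0 : L))) (IsLocalRing.closedPoint L)) :
    evalAt i 0 (ψ (tc L j)) = 0 := by
  have h := congrArg (fun p : PrimeSpectrum (CR L j) => tc L j ∈ p.asIdeal) hpt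
  have h1 : evalAt j (0 : L) (tc L j) ∈ (IsLocalRing.closedPoint L).asIdeal := by
    rw [evalAt_tc]; exact Ideal.zero_mem _
  have h2 : evalAt i (0 : L) (ψ (tc L j)) ∈ (IsLocalRing.closedPoint L).asIdeal := h.mpr h1
  by_contra h3
  exact (IsLocalRing.closedPoint L).2.ne_top (Ideal.eq_top_of_isUnit_mem _ h2 (Ne.isUnit h3))

/-- A semilinear involution of `P¹` exchanging `0` and `∞` is `z ↦ b / z`. -/
theorem exists_eq_swapMap (τ : L →+* L) (hτ : τ.comp τ = RingHom.id L)
    (g : CohB1.ProjSpace 1 L ⟶ CohB1.ProjSpace 1 L)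
    (hgS : g ≫ CohB1.ProjSpace.toSpec 1 L = CohB1.ProjSpace.toSpec 1 L ≫ Spec.map (CommRingCat.ofHom τ))
    (hgg : g ≫ g = 𝟙 _)
    (h01 : g (stdPt L L 0 (IsLocalRing.closedPoint L)) = stdPt L L 1 (IsLocalRing.closedPoint L)) :
    ∃ (b c : L) (hc : τ c * b = 1), τ b = b ∧ g = swapMap τ b c hc := by
  have hinv : ∀ z, g (g z) = z := fun z => by
    rw [← Scheme.Hom.comp_apply, hgg]; rfl
  have h10 : g (stdPt L L 1 (IsLocalRing.closedPoint L)) = stdPt L L 0 (IsLocalRing.closedPoint L) := by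
    rw [← h01, hinv]
  have hg : ∀ {s t : Fin 2}, s ≠ t → g (stdPt L L t (IsLocalRing.closedPoint L)) =
      stdPt L L s (IsLocalRing.closedPoint L) := by
    intro s t hst
    fin_cases t
    · obtain rfl : s = 1 := by
        fin_cases s
        · exact absurd rfl hst
        · rfl
      exact h01
    · obtain rfl : s = 0 := by
        fin_cases s
        · rfl
        · exact absurd rfl hst
      exact h10
  have hlift : ∀ {s t : Fin 2}, s ≠ t → ∃ ψ : CR L t →+* CR L s,
      chartP 1 L s ≫ g = Spec.map (CommRingCat.ofHom ψ) ≫ chartP 1 L t ∧ ∀ r, ψ (C r) = C (τ r) := by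
    intro s t hst
    have hr : Set.range (chartP 1 L s ≫ g) ⊆ Set.range (chartP 1 L t) := by
      rintro _ ⟨w, rfl⟩
      rw [Scheme.Hom.comp_apply]
      refine mem_range_chart hst.symm fun h => stdPt_notMem_range_chart hst w ?_
      exact (hinv _).symm.trans ((congrArg g h).trans (hg hst.symm))
    obtain ⟨ψ, hψ⟩ := Spec.map_surjective (IsOpenImmersion.lift (chartP 1 L t) (chartP 1 L s ≫ g) hr)
    have he : chartP 1 L s ≫ g = Spec.map ψ ≫ chartP 1 L t := by
      rw [hψ, IsOpenImmersion.lift_fac]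
    refine ⟨ψ.hom, he, fun r => ?_⟩
    have e1 : (chartP 1 L s ≫ g) ≫ CohB1.ProjSpace.toSpec 1 L =
        Spec.map (CommRingCat.ofHom (C : L →+* CR L s)) ≫ Spec.map (CommRingCat.ofHom τ) := by
      rw [Category.assoc, hgS, ← Category.assoc]
      exact congrArg (· ≫ Spec.map (CommRingCat.ofHom τ)) (chart_toSpec 1 L s)
    rw [he, Category.assoc] at e1
    have e2 : Spec.map (CommRingCat.ofHom (C : L →+* CR L t) ≫ ψ) =
        Spec.map (CommRingCat.ofHom τ ≫ CommRingCat.ofHom (C : L →+* CR L s)) := by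
      rw [Spec.map_comp, Spec.map_comp]
      refine Eq.trans ?_ e1
      exact congrArg (Spec.map ψ ≫ ·) (chart_toSpec 1 L t).symm
    exact RingHom.congr_fun (congrArg CommRingCat.Hom.hom (Spec.map_injective e2)) r
  obtain ⟨ψ0, hψ0, hC0⟩ := hlift (show (0 : Fin 2) ≠ 1 by decide)
  obtain ⟨ψ1, hψ1, hC1⟩ := hlift (show (1 : Fin 2) ≠ 0 by decide)
  have hid : ∀ {s t : Fin 2} (ψ : CR L t →+* CR L s) (ψ' : CR L s →+* CR L t),
      chartP 1 L s ≫ g = Spec.map (CommRingCat.ofHom ψ) ≫ chartP 1 L t →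
      chartP 1 L t ≫ g = Spec.map (CommRingCat.ofHom ψ') ≫ chartP 1 L s → ψ.comp ψ' = RingHom.id _ := by
    intro s t ψ ψ' h h'
    have e : Spec.map (CommRingCat.ofHom (ψ.comp ψ')) ≫ chartP 1 L s = 𝟙 _ ≫ chartP 1 L s := by
      rw [CommRingCat.ofHom_comp, Spec.map_comp, Category.assoc, ← h', ← Category.assoc, ← h, Category.assoc,
        hgg, Category.id_comp]
      exact Category.comp_id _
    have e' := (cancel_mono (chartP 1 L s)).1 e
    rw [← Spec.map_id] at e'
    exact congrArg CommRingCat.Hom.hom (Spec.map_injective e')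
  have hid01 := hid ψ0 ψ1 hψ0 hψ1
  have hid10 := hid ψ1 ψ0 hψ1 hψ0
  have horig : ∀ {s t : Fin 2} (ψ : CR L t →+* CR L s), s ≠ t →
      chartP 1 L s ≫ g = Spec.map (CommRingCat.ofHom ψ) ≫ chartP 1 L t →
      ∃ w, ψ (tc L t) = tc L s * w := by
    intro s t ψ hst h
    have hs := vecMor_eq_evalAt (L := L) s (unitVec L s) 0 (fun r hr => by simp [unitVec, hr])
    have ht := vecMor_eq_evalAt (L := L) t (unitVec L t) 0 (fun r hr => by simp [unitVec, hr])
    have h0 : evalAt s (0 : L) (ψ (tc L t)) = 0 := by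
      refine ker_evalAt_le ψ ((chartP 1 L t).injective ?_)
      have := hg hst.symm
      rw [stdPt, stdPt, hs, ht, Scheme.Hom.comp_apply, Scheme.Hom.comp_apply, ← Scheme.Hom.comp_apply, h,
        Scheme.Hom.comp_apply] at this
      exact this
    obtain ⟨w, hw⟩ := exists_eq_C_add_tc_mul s (ψ (tc L t))
    rw [h0, C_0, zero_add] at hw
    exact ⟨w, hw⟩
  obtain ⟨w, hw⟩ := horig ψ0 (by decide) hψ0
  obtain ⟨w', hw'⟩ := horig ψ1 (by decide) hψ1
  have hunit : ∀ {s t : Fin 2} (ψ : CR L t →+* CR L s) (ψ' : CR L s →+* CR L t) (v : CR L s) (v' : CR L t),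
      ψ (tc L t) = tc L s * v → ψ' (tc L s) = tc L t * v' → ψ.comp ψ' = RingHom.id _ → IsUnit v := by
    intro s t ψ ψ' v v' hv hv' hc
    have h := RingHom.congr_fun hc (tc L s)
    rw [RingHom.comp_apply, hv', map_mul, hv, RingHom.id_apply, mul_assoc] at h
    have hne : tc L s ≠ 0 := X_ne_zero _
    exact IsUnit.of_mul_eq_one _ (mul_left_cancel₀ hne (h.trans (mul_one _).symm))
  obtain ⟨a, -, rfl⟩ : ∃ a, IsUnit a ∧ C a = w := by
    obtain ⟨a, ha, h⟩ := MvPolynomial.isUnit_iff_eq_C_of_isReduced.1 (hunit ψ0 ψ1 w w' hw hw' hid01)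
    exact ⟨a, ha, h.symm⟩
  obtain ⟨a', -, rfl⟩ : ∃ a, IsUnit a ∧ C a = w' := by
    obtain ⟨a, ha, h⟩ := MvPolynomial.isUnit_iff_eq_C_of_isReduced.1 (hunit ψ1 ψ0 w' (C a) hw' hw hid10)
    exact ⟨a, ha, h.symm⟩
  rw [mul_comm] at hw hw'
  have e0 : ψ0 = scal τ 0 1 a :=
    CR_ringHom_ext (fun r => by rw [hC0, scal_C]) (by rw [hw, scal_tc])
  have e1 : ψ1 = scal τ 1 0 a' :=
    CR_ringHom_ext (fun r => by rw [hC1, scal_C]) (by rw [hw', scal_tc])
  subst e0 e1
  -- `ψ1 ψ0 = id`
  have r1 : τ a * a' = 1 := by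
    have h := RingHom.congr_fun hid10 (tc L 1)
    rw [RingHom.comp_apply, scal_tc, map_mul, scal_C, scal_tc, RingHom.id_apply, ← mul_assoc, ← C_mul] at h
    have h' := congrArg (evalAt 1 (1 : L)) h
    rwa [map_mul, evalAt_C, evalAt_tc, mul_one] at h'
  -- compatibility at the point `(1 : 1)`
  have r2 : a * a' = 1 := by
    have hP : ∀ i : Fin 2, vecMor (R := L) i (fun _ => (1 : L)) =
        Spec.map (CommRingCat.ofHom (evalAt i (1 : L))) ≫ chartP 1 L i :=
      fun i => vecMor_eq_evalAt i _ 1 fun _ _ => rfl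
    have hττ : ∀ x, τ (τ x) = x := RingHom.congr_fun hτ
    have hev : ∀ (i j : Fin 2) (x : L), (evalAt i (1 : L)).comp (scal τ i j x) = τ.comp (evalAt j (τ x)) := by
      intro i j x
      refine CR_ringHom_ext (fun r => ?_) ?_
      · rw [RingHom.comp_apply, RingHom.comp_apply, scal_C, evalAt_C, evalAt_C]
      · rw [RingHom.comp_apply, RingHom.comp_apply, scal_tc, map_mul, evalAt_C, evalAt_tc, evalAt_tc, hττ,
          mul_one]
    have e := congrArg (· ≫ g) (vecMor_change (R := L) (s := (0 : Fin 2)) (t := 1) (F := fun _ => (1 : L))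
      (G := fun _ => 1) rfl rfl (fun r => (one_mul 1).symm))
    simp only at e
    rw [hP, hP, Category.assoc, Category.assoc, hψ0, hψ1, ← Category.assoc, ← Category.assoc,
      ← Spec.map_comp, ← Spec.map_comp, ← CommRingCat.ofHom_comp, ← CommRingCat.ofHom_comp, hev, hev,
      CommRingCat.ofHom_comp, CommRingCat.ofHom_comp, Spec.map_comp, Spec.map_comp, Category.assoc,
      Category.assoc] at e
    have hiso : IsIso (Spec.map (CommRingCat.ofHom τ)) := by
      refine ⟨Spec.map (CommRingCat.ofHom τ), ?_, ?_⟩ <;>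
      · rw [← Spec.map_comp, ← CommRingCat.ofHom_comp, hτ]; exact Spec.map_id _
    replace e := (cancel_epi (Spec.map (CommRingCat.ofHom τ))).1 e
    have hτa : τ a ≠ 0 := fun h => by simp [h] at r1
    have hA : vecMor (R := L) 1 ![τ a, 1] = Spec.map (CommRingCat.ofHom (evalAt 1 (τ a))) ≫ chartP 1 L 1 :=
      vecMor_eq_evalAt 1 _ _ fun r hr => by fin_cases r <;> simp_all
    have hB : vecMor (R := L) 0 ![1, (τ a)⁻¹] =
        Spec.map (CommRingCat.ofHom (evalAt 0 (τ a)⁻¹)) ≫ chartP 1 L 0 :=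
      vecMor_eq_evalAt 0 _ _ fun r hr => by fin_cases r <;> simp_all
    have hch := vecMor_change (R := L) (s := (1 : Fin 2)) (t := 0) (F := ![τ a, 1]) (G := ![1, (τ a)⁻¹]) rfl rfl
      (fun r => by fin_cases r <;> simp [mul_inv_cancel₀ hτa])
    rw [hA, hB] at hch
    have e' := (cancel_mono (chartP 1 L 0)).1 (hch.symm.trans e)
    have e'' := RingHom.congr_fun (congrArg CommRingCat.Hom.hom (Spec.map_injective e')) (tc L 0)
    simp only [CommRingCat.hom_ofHom, evalAt_tc] at e''
    have h3 := congrArg τ e''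
    rw [map_inv₀, hττ, hττ] at h3
    rw [← h3, mul_inv_cancel₀]
    intro h
    simp [h] at r1
  have hfix : τ a = a := by
    have ha' : a' ≠ 0 := fun h => by simp [h] at r2
    exact mul_right_cancel₀ ha' (r1.trans r2.symm)
  have hc : τ (τ a') * a = 1 := by
    rw [show τ (τ a') = a' from RingHom.congr_fun hτ a', mul_comm]; exact r2
  refine ⟨a, τ a', hc, hfix, P1_hom_ext ?_ ?_⟩
  · rw [hψ0, chart_swapMap_zero]; rfl
  · rw [hψ1, chart_swapMap_one, show τ (τ a') = a' from RingHom.congr_fun hτ a']; rfl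

end Groth.Agent.ConicDesc28
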