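/-
Descent of schemes along finite Galois extensions for semilinear actions with enough affines.
-/
import Groth.Agent.Lib.GalTwist25.Exists

set_option autoImplicit false
set_option linter.style.haveILetI false
set_option backward.isDefEq.respectTransparency false

universe u

open CategoryTheory CategoryTheory.Limits AlgebraicGeometry TopologicalSpace

namespace Groth.Agent.ConicDesc28

variable {k : Type u} [Field k] {K : Type u} [Field K] [Algebra k K] [FiniteDimensional k K] [IsGalois k K]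

/-- A semilinear action with orbits in affine opens descends the scheme. -/
theorem exists_descent {P : Scheme.{u}} (π : P ⟶ Spec (CommRingCat.of K)) (ρ : (K ≃ₐ[k] K) →* Aut P)
    (hρ : ∀ σ, (ρ σ).hom ≫ π = π ≫ GalTw.specMap K σ⁻¹)
    (hP : ∀ x : P, ∃ U : P.Opens, IsAffineOpen U ∧ ∀ σ : K ≃ₐ[k] K, (ρ σ).hom x ∈ U) :
    ∃ (Y : Scheme.{u}) (q : Y ⟶ Spec (CommRingCat.of k)) (p : P ⟶ Y),
      SGA1.IsQuot ρ p ∧ IsPullback p π q (Spec.map (CommRingCat.ofHom (algebraMap k K))) := by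
  classical
  let pt := Spec.map (CommRingCat.ofHom (algebraMap k K))
  have hfree : IsQuot25.Free ρ := by
    intro Ω _ _ ξ σ h
    obtain ⟨χ, hχ⟩ := Spec.map_surjective (ξ ≫ π)
    have h1 : (ξ ≫ π) ≫ GalTw.specMap K σ⁻¹ = ξ ≫ π := by
      conv_rhs => rw [← h]
      simp only [Category.assoc, hρ]
    rw [← hχ, GalTw.specMap, ← Spec.map_comp] at h1
    have h2 := congrArg CommRingCat.Hom.hom (Spec.map_injective h1)
    have : σ⁻¹ = 1 := AlgEquiv.ext fun x => χ.hom.injective (RingHom.congr_fun h2 x)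
    simpa using this
  obtain ⟨Q, p, hp⟩ := IsQuot25.exists_isQuot ρ fun x => by
    obtain ⟨U, hU, hxU⟩ := hP x
    exact ⟨U, hU, fun g => hxU g⟩
  obtain ⟨q, hq, -⟩ := IsQuot25.desc_unique hp (π ≫ pt) fun σ => by
    rw [← Category.assoc, hρ, Category.assoc]
    exact congrArg (π ≫ ·) (GalTw.specMap_comp_pt σ⁻¹)
  let ψ : P ⟶ pullback q pt := pullback.lift p π hq
  have hψ1 : ψ ≫ pullback.fst q pt = p := pullback.lift_fst _ _ _
  have hψ2 : ψ ≫ pullback.snd q pt = π := pullback.lift_snd _ _ _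
  haveI : IsFinite p := IsQuot25.isFinite_free hp hfree
  haveI : Etale p := IsQuot25.etale hp hfree
  haveI : Surjective p := ⟨IsQuot25.surjective hp⟩
  obtain ⟨h1, h2⟩ := FEtLimit25.isFinite_etale_of_separable k K
  haveI : IsFinite pt := h1
  haveI : Etale pt := h2
  haveI : IsFinite (pullback.fst q pt) := MorphismProperty.pullback_fst _ _ h1
  haveI : Etale (pullback.fst q pt) := MorphismProperty.pullback_fst _ _ h2
  let A : FEt.Cat Q := MorphismProperty.Over.mk ⊤ p ⟨inferInstance, inferInstance⟩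
  let B : FEt.Cat Q := MorphismProperty.Over.mk ⊤ (pullback.fst q pt) ⟨inferInstance, inferInstance⟩
  let Ψ : A ⟶ B := MorphismProperty.Over.homMk ψ hψ1
  have hiso : IsIso Ψ := by
    refine FEtEq25.isIso_of_bijective_fibres Ψ fun Ω _ _ η => ⟨fun s t hst => ?_, fun r => ?_⟩
    · have hst' : s.1 ≫ ψ = t.1 ≫ ψ := congrArg Subtype.val hst
      obtain ⟨σ, hσ⟩ := IsQuot25.exists_act_of_comp_eq hp s.1 t.1 (s.2.trans t.2.symm)
      have hfix : (s.1 ≫ π) ≫ GalTw.specMap K σ⁻¹ = s.1 ≫ π := by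
        rw [Category.assoc, ← hρ σ, ← Category.assoc, hσ, ← hψ2, reassoc_of% hst']
      obtain ⟨χ, hχ⟩ := Spec.map_surjective (s.1 ≫ π)
      rw [← hχ, GalTw.specMap, ← Spec.map_comp] at hfix
      have h2 := congrArg CommRingCat.Hom.hom (Spec.map_injective hfix)
      have h3 : σ⁻¹ = 1 := AlgEquiv.ext fun x => χ.hom.injective (RingHom.congr_fun h2 x)
      have hσ1 : σ = 1 := inv_eq_one.1 h3
      apply Subtype.ext
      rw [← hσ, hσ1, map_one]
      exact (Category.comp_id _).symm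
    · obtain ⟨z, hz⟩ := p.surjective (η (IsLocalRing.closedPoint Ω))
      obtain ⟨s, hs, -⟩ := FEtEq25.exists_fiber_point η p z hz
      obtain ⟨χ, hχ⟩ := Spec.map_surjective (s ≫ π)
      obtain ⟨χ', hχ'⟩ := Spec.map_surjective (r.1 ≫ pullback.snd q pt)
      have hk : Spec.map χ ≫ pt = Spec.map χ' ≫ pt := by
        rw [hχ, hχ', Category.assoc, ← hq, ← Category.assoc, hs, Category.assoc, ← pullback.condition,
          ← Category.assoc]
        exact congrArg (· ≫ q) r.2.symm
      letI : Algebra k Ω := (χ.hom.comp (algebraMap k K)).toAlgebra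
      have hk' := congrArg CommRingCat.Hom.hom (Spec.map_injective
        ((Spec.map_comp _ _).trans (hk.trans (Spec.map_comp _ _).symm)))
      let e₁ : K →ₐ[k] Ω := { χ.hom with commutes' := fun c => rfl }
      let e₂ : K →ₐ[k] Ω := { χ'.hom with commutes' := fun c => (RingHom.congr_fun hk' c).symm }
      have hbij : Function.Bijective fun σ : K ≃ₐ[k] K => e₁.comp (σ : K →ₐ[k] K) := by
        refine (Fintype.bijective_iff_injective_and_card _).2 ⟨fun σ τ h => ?_, ?_⟩
        · exact AlgEquiv.ext fun x => χ.hom.injective (AlgHom.congr_fun h x)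
        · rw [AlgHom.card, ← Nat.card_eq_fintype_card, IsGalois.card_aut_eq_finrank]
      obtain ⟨σ, hσ⟩ := hbij.2 e₂
      refine ⟨⟨s ≫ (ρ σ⁻¹).hom, ?_⟩, Subtype.ext (pullback.hom_ext ?_ ?_)⟩
      · show (s ≫ (ρ σ⁻¹).hom) ≫ p = η
        rw [Category.assoc, hp.inv, hs]
      · show ((s ≫ (ρ σ⁻¹).hom) ≫ ψ) ≫ pullback.fst q pt = r.1 ≫ pullback.fst q pt
        rw [Category.assoc, hψ1, Category.assoc, hp.inv, hs]
        exact r.2.symm
      · show ((s ≫ (ρ σ⁻¹).hom) ≫ ψ) ≫ pullback.snd q pt = r.1 ≫ pullback.snd q pt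
        rw [Category.assoc, hψ2, Category.assoc, hρ, inv_inv, ← Category.assoc, ← hχ, ← hχ', GalTw.specMap,
          ← Spec.map_comp]
        exact congrArg Spec.map (CommRingCat.hom_ext (RingHom.ext fun x => AlgHom.congr_fun hσ x))
  haveI : IsIso ψ :=
    inferInstanceAs (IsIso ((MorphismProperty.Over.forget FEt.prop ⊤ Q ⋙ Over.forget Q).map Ψ))
  exact ⟨Q, q, p, hp, IsPullback.of_iso_pullback ⟨hq⟩ (asIso ψ) hψ1 hψ2⟩

end Groth.Agent.ConicDesc28
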