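/-
The conic attached to `(K(√d), b)`.
-/
import Groth.Agent.Lib.ConicDesc28.Classify
import Groth.Agent.Lib.ConicDesc28.Quot
import Groth.Agent.Lib.EssDim28.GenusZero
import Groth.Agent.Lib.FpqcDesc.Basic

set_option autoImplicit false
set_option linter.style.haveILetI false
set_option backward.isDefEq.respectTransparency false
set_option backward.isDefEq.respectTransparency.types false

universe u

open CategoryTheory CategoryTheory.Limits AlgebraicGeometry

namespace Groth.Agent.ConicDesc28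

open Groth.Agent.ProjSpace

/-- `IsCurveOfGenus` is stable under base change. -/
theorem isCurveOfGenus_of_isPullback {g : ℕ} {C T C' T' : Scheme.{u}} {p : C ⟶ T} {i : C' ⟶ C} {p' : C' ⟶ T'}
    {t : T' ⟶ T} (sq : IsPullback i p' p t) (h : ModFun.IsCurveOfGenus g p) : ModFun.IsCurveOfGenus g p' := by
  obtain ⟨hsm, hpr, hgi, hfib⟩ := h
  exact ⟨MorphismProperty.of_isPullback (P := @Smooth) sq hsm,
    MorphismProperty.of_isPullback (P := @IsProper) sq hpr,
    MorphismProperty.of_isPullback (P := @GeometricallyIrreducible) sq hgi,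
    fun Ω _ _ t' X i' q h' => hfib Ω (t' ≫ t) X (i' ≫ i) q (h'.paste_horiz sq)⟩

/-- A form of the line over a finite Galois extension is a curve of genus zero. -/
theorem isCurveOfGenus_of_form {K K' : Type u} [Field K] [Field K'] [Algebra K K'] [Algebra.IsAlgebraic K K']
    {Y : Scheme.{u}} (q : Y ⟶ Spec (CommRingCat.of K)) (p : CohB1.ProjSpace 1 K' ⟶ Y)
    (sq : IsPullback p (CohB1.ProjSpace.toSpec 1 K') q (Spec.map (CommRingCat.ofHom (algebraMap K K')))) :
    ModFun.IsCurveOfGenus 0 q := by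
  let pt := Spec.map (CommRingCat.ofHom (algebraMap K K'))
  haveI hs : Surjective pt :=
    ⟨Function.surjective_to_subsingleton (α := ↥(Spec (CommRingCat.of K'))) (β := PrimeSpectrum K) _⟩
  haveI hf : Flat pt :=
    (HasRingHomProperty.Spec_iff (P := @Flat)).2 (RingHom.flat_algebraMap_iff.2 inferInstance)
  obtain ⟨hsm, hpr, hgi, hfib⟩ := Groth.Agent.EssDim28.isCurveOfGenus_P1 K'
  have hQ : (@Surjective ⊓ @Flat ⊓ @QuasiCompact : MorphismProperty Scheme.{u}) pt := ⟨⟨hs, hf⟩, inferInstance⟩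
  have key : ∀ (Ω : Type u) [Field Ω] [IsAlgClosed Ω] (f : K →+* Ω), ∃ f' : K' →+* Ω, f'.comp (algebraMap K K') = f := by
    intro Ω _ _ f
    letI : Algebra K Ω := f.toAlgebra
    exact ⟨(IsAlgClosed.lift : K' →ₐ[K] Ω).toRingHom, (IsAlgClosed.lift : K' →ₐ[K] Ω).comp_algebraMap⟩
  have fibre : ∀ (Ω : Type u) [Field Ω] [IsAlgClosed Ω] (t : Spec (CommRingCat.of Ω) ⟶ Spec (CommRingCat.of K))
      (X : Scheme.{u}) (i : X ⟶ Y) (q' : X ⟶ Spec (CommRingCat.of Ω)), IsPullback i q' q t →
      ∃ (t' : Spec (CommRingCat.of Ω) ⟶ Spec (CommRingCat.of K')) (i' : X ⟶ CohB1.ProjSpace 1 K'),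
        IsPullback i' q' (CohB1.ProjSpace.toSpec 1 K') t' := by
    intro Ω _ _ t X i q' h
    obtain ⟨f, rfl⟩ := Spec.map_surjective t
    obtain ⟨f', hf'⟩ := key Ω f.hom
    refine ⟨Spec.map (CommRingCat.ofHom f'), sq.lift i (q' ≫ Spec.map (CommRingCat.ofHom f')) ?_, ?_⟩
    · rw [h.w, Category.assoc, ← Spec.map_comp, ← CommRingCat.ofHom_comp, hf']; rfl
    · refine IsPullback.of_right ?_ (sq.lift_snd _ _ _) sq
      rw [sq.lift_fst, ← Spec.map_comp, ← CommRingCat.ofHom_comp, hf']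
      exact h
  haveI := FpqcDesc.descendsAlong_isProper.{u}
  refine ⟨MorphismProperty.of_isPullback_of_descendsAlong (P := @Smooth) sq.flip hQ hsm,
    MorphismProperty.of_isPullback_of_descendsAlong (P := @IsProper) sq.flip hQ hpr, ⟨?_⟩, ?_⟩
  · intro F _ y Z fst snd h
    let Ω := AlgebraicClosure F
    let g := Spec.map (CommRingCat.ofHom (algebraMap F Ω))
    obtain ⟨t', i', h'⟩ := fibre Ω (g ≫ y) (pullback snd g) (pullback.fst snd g ≫ fst) (pullback.snd snd g)
      ((IsPullback.of_hasPullback snd g).paste_horiz h)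
    haveI : IrreducibleSpace ↥(pullback snd g) := hgi.geometrically_irreducibleSpace t' i' (pullback.snd snd g) h'
    haveI : Surjective g :=
      ⟨Function.surjective_to_subsingleton (α := ↥(Spec (CommRingCat.of Ω))) (β := PrimeSpectrum F) _⟩
    have hsurj : Function.Surjective (pullback.fst snd g).base :=
      (MorphismProperty.pullback_fst (P := @Surjective) snd g inferInstance).surj
    have hirr := (IrreducibleSpace.isIrreducible_univ ↥(pullback snd g)).image _
      (pullback.fst snd g).base.hom.continuous.continuousOn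
    rw [Set.image_univ, Set.range_eq_univ.2 hsurj] at hirr
    exact irreducibleSpace_def _ |>.2 hirr
  · intro Ω _ _ t X i q' h
    obtain ⟨t', i', h'⟩ := fibre Ω t X i q' h
    exact hfib Ω t' X i' q' h'

/-- The semilinear swap as an automorphism. -/
noncomputable def swapIso {K : Type u} [CommRing K] (τ : K →+* K) (b c : K) (hc : τ c * b = 1)
    (hτ : τ.comp τ = RingHom.id K) (hb : τ b = b) : CohB1.ProjSpace 1 K ≅ CohB1.ProjSpace 1 K :=
  ⟨swapMap τ b c hc, swapMap τ b c hc, swapMap_comp_self τ b c hc hτ hb, swapMap_comp_self τ b c hc hτ hb⟩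

/-- The conic: the twist of the line by `z ↦ b / z`. -/
theorem exists_model {K K' : Type u} [Field K] [Field K'] [Algebra K K'] [FiniteDimensional K K'] [IsGalois K K']
    (τ₀ : K' ≃ₐ[K] K') (hG : ∀ σ : K' ≃ₐ[K] K', σ = 1 ∨ σ = τ₀) (hne : τ₀ ≠ 1)
    (b c : K') (hc : τ₀ c * b = 1) (hb : τ₀ b = b) :
    ∃ (Y : Scheme.{u}) (q : Y ⟶ Spec (CommRingCat.of K)) (p : CohB1.ProjSpace 1 K' ⟶ Y),
      swapMap (τ₀ : K' →+* K') b c hc ≫ p = p ∧
      IsPullback p (CohB1.ProjSpace.toSpec 1 K') q (Spec.map (CommRingCat.ofHom (algebraMap K K'))) ∧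
      ModFun.IsCurveOfGenus 0 q := by
  classical
  have hsq : τ₀ * τ₀ = 1 := by
    rcases hG (τ₀ * τ₀) with h | h
    · exact h
    · exact absurd (mul_eq_left.1 h) hne
  have hτ : (τ₀ : K' →+* K').comp (τ₀ : K' →+* K') = RingHom.id K' :=
    RingHom.ext fun x => AlgEquiv.congr_fun hsq x
  have hτinv : τ₀⁻¹ = τ₀ := inv_eq_of_mul_eq_one_right hsq
  let S : Aut (CohB1.ProjSpace 1 K') := swapIso (τ₀ : K' →+* K') b c hc hτ hb
  have hSS : S * S = 1 := Iso.ext (swapMap_comp_self (τ₀ : K' →+* K') b c hc hτ hb)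
  let ρ : (K' ≃ₐ[K] K') →* Aut (CohB1.ProjSpace 1 K') :=
    { toFun := fun σ => if σ = 1 then 1 else S
      map_one' := if_pos rfl
      map_mul' := fun σ σ' => by
        rcases hG σ with h | h <;> rcases hG σ' with h' | h' <;> rw [h, h']
        · simp
        · simp [hne]
        · simp [hne]
        · simp [hne, hsq, hSS] }
  have hρτ : ρ τ₀ = S := if_neg hne
  have hρ : ∀ σ, (ρ σ).hom ≫ CohB1.ProjSpace.toSpec 1 K' =
      CohB1.ProjSpace.toSpec 1 K' ≫ GalTw.specMap K' σ⁻¹ := by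
    intro σ
    rcases hG σ with rfl | h
    · rw [map_one, inv_one, GalTw.specMap_one, Category.comp_id]
      exact Category.id_comp _
    · rw [h, hρτ, hτinv]
      exact swapMap_toSpec (τ₀ : K' →+* K') b c hc
  obtain ⟨Y, q, p, hp, hsqr⟩ := exists_descent (CohB1.ProjSpace.toSpec 1 K') ρ hρ fun x => by
    obtain ⟨j, hj, hx, hy, -⟩ := REq15.exists_chart_pair (k := K') (n := 1) x (S.hom x)
    refine ⟨j.opensRange, isAffineOpen_opensRange j, fun σ => ?_⟩
    rcases hG σ with rfl | h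
    · rw [map_one]; exact hx
    · rw [h, hρτ]; exact hy
  refine ⟨Y, q, p, ?_, hsqr, isCurveOfGenus_of_form q p hsqr⟩
  have := hp.inv τ₀
  rwa [hρτ] at this

end Groth.Agent.ConicDesc28
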