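/-
A point of degree at most two on a smooth curve of genus zero.
-/
import Groth.Agent.Lib.CurveCoh17.DegTwo
import Groth.Agent.Lib.CurveCoh17.VeryAmple
import Groth.Agent.Lib.GeomRed18.Smooth
import Groth.Agent.Lib.GeomIrr18.Scheme
import Groth.Agent.S1536

set_option autoImplicit false
set_option linter.style.haveILetI false
set_option backward.isDefEq.respectTransparency false
set_option maxHeartbeats 1000000

universe u

open CategoryTheory TopologicalSpace Opposite CategoryTheory.Limits AlgebraicGeometry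

namespace Groth.Agent.ConicDesc28

open Groth.Agent.M1 Groth.Agent.M2 Groth.Agent.CurveCoh17

attribute [local instance] Curv2.resAlgebra stalkMod

/-- A smooth proper geometrically irreducible curve of genus zero has a closed point of degree `≤ 2`. -/
theorem exists_point_degree_le_two (k : Type u) [Field k] (X : Scheme.{u}) [X.Over (Spec (CommRingCat.of k))]
    [IsIntegral X] [IsProper (X ↘ Spec (CommRingCat.of k))] (hdim : topologicalKrullDim X = 1)
    [Smooth (X ↘ Spec (CommRingCat.of k))] [GeometricallyIrreducible (X ↘ Spec (CommRingCat.of k))]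
    (hg : Curv2.genus k X = 0) :
    ∃ x : X, IsClosed ({x} : Set X) ∧ Module.finrank k (X.residueField x) ≤ 2 := by
  haveI : GeometricallyConnected (X ↘ Spec (CommRingCat.of k)) :=
    Groth.Agent.GeomIrr.geometricallyConnected_of_irreducible _
  haveI : GeometricallyReduced (X ↘ Spec (CommRingCat.of k)) := Groth.Agent.GeomRed.geometricallyReduced_of_smooth
  have h0 : Module.finrank k (Coh.HH X (Coh.structureModule X) 0) = 1 := Groth.Agent.S1536.result k X
  have hX : VB17.RegCurve k X := VB17.regCurve' hdim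
  haveI := hX.like.noetherian
  have hbig := hasBigDeg_of_regCurve hX hdim
  obtain ⟨W, lam, hW⟩ := VB17.exists_isDualizing hX h0 hbig
  obtain ⟨-, -, hd⟩ := hW.invariants hX h0 hbig
  rw [hg] at hd
  obtain ⟨D, hD, ⟨e⟩⟩ := M2.exists_inverse hW.inv
  have hdD : Curv2.deg k X D 1 = 2 := by
    rw [hX.like.deg_of_tensor_iso hW.inv hD e, hd]; norm_num
  have hrk := rkOne_of_invertible hX.like.dim hD
  have hrr := hX.like.rr hrk.coh
  rw [hdD, h0, hg] at hrr
  haveI : Nontrivial (Coh.HH X D 0) := Module.nontrivial_of_finrank_pos (R := k) (by omega)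
  obtain ⟨w, hw⟩ := exists_ne (0 : Coh.HH X D 0)
  have hs : (hh0 D w : Γ(D, (⊤ : X.Opens))) ≠ 0 := hh0_ne_zero hw
  obtain ⟨x, hx⟩ := exists_vanish_of_deg_pos hX.like hD (by omega) hs
  have hne : x ≠ genericPoint X := by
    rintro rfl
    have hbot : IsLocalRing.maximalIdeal (X.presheaf.stalk (genericPoint X)) = ⊥ :=
      IsLocalRing.isField_iff_maximalIdeal_eq.1 (Field.toIsField X.functionField)
    rw [hbot, Submodule.bot_smul, Submodule.mem_bot] at hx
    exact hs (eq_zero_of_germ_eq_zero ((isInvertible_iff_isFinLocFreeOfRank_one D).1 hD) _ hx)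
  have hc : IsClosed ({x} : Set X) := AmpleFin18.isClosed_of_ne_genericPoint hdim.le hne
  refine ⟨x, hc, ?_⟩
  set Z := Scheme.IdealSheafData.vanishingIdeal (⟨{x}, hc⟩ : Closeds X)
  have hI : PicF.IsInvertible (ClSub.idealMod Z) :=
    isInvertible_pointIdeal_of_pid hdim hc (hX.pid x)
  obtain ⟨a, ha⟩ := (germ_mem_iff (k := k) hD hc w).1 hx
  have hT : PicF.IsInvertible (CohB1.tensorMod (ClSub.idealMod Z) D) := M2.isInvertible_tensor hI hD
  haveI : Nontrivial (Coh.HH X (CohB1.tensorMod (ClSub.idealMod Z) D) 0) := by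
    refine ⟨a, 0, fun h => hw ?_⟩
    rw [← ha, h, map_zero]
  have hnn := (hX.like.deg_nonneg (rkOne_of_invertible hX.like.dim hT) inferInstance).1
  rw [hX.like.deg_tensor_invertible hI hD, hdD] at hnn
  have h := euler_add (shortExact_idealMod Z) (hX.like.adm (isCoh_idealMod Z)) (hX.like.adm (isCoh_quotMod Z))
  dsimp only at h
  rw [(suppIn_quotMod_point hc).euler_eq (hX.like.fin _ (isCoh_quotMod Z) 0), finrank_quotMod_point hc] at h
  rw [Curv2.deg] at hnn
  push_cast at h hnn
  omega

end Groth.Agent.ConicDesc28
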