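/-
A curve of genus zero is defined over a field of transcendence degree at most two.
-/
import Groth.Agent.Lib.ConicDesc28.Model
import Groth.Agent.Lib.ConicDesc28.Point
import Groth.Agent.Lib.GalDesc12.Basic
import Groth.Agent.Lib.EssDim28.Compositum
import Groth.Agent.Lib.GeomIrr18.Scheme

set_option autoImplicit false
set_option linter.style.haveILetI false
set_option backward.isDefEq.respectTransparency false
set_option backward.isDefEq.respectTransparency.types false
set_option maxHeartbeats 1000000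

universe u

open CategoryTheory CategoryTheory.Limits AlgebraicGeometry

namespace Groth.Agent.ConicDesc28

open Groth.Agent.EssDim28

attribute [local instance] Curv2.resAlgebra

/-- Invariant morphisms descend along a finite Galois extension. -/
theorem exists_desc_of_galAct (k : Type u) [Field k] (K : Type u) [Field K] [Algebra k K] [FiniteDimensional k K]
    [IsGalois k K] (X : Scheme.{u}) [X.Over (Spec (CommRingCat.of k))] {Z : Scheme.{u}}
    (f : Curv2.bc k X K ⟶ Z) (hinv : ∀ σ : K ≃ₐ[k] K, Curv2.galAct k X K σ ≫ f = f) :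
    ∃ e : X ⟶ Z, Curv2.bcFst k X K ≫ e = f := by
  haveI := GalDesc12.effectiveEpi_bcFst k K X
  have hd : ∀ {W : Scheme.{u}} (g₁ g₂ : W ⟶ Curv2.bc k X K),
      g₁ ≫ Curv2.bcFst k X K = g₂ ≫ Curv2.bcFst k X K → g₁ ≫ f = g₂ ≫ f := fun {W} g₁ g₂ hg => by
    obtain ⟨U, hU, hU'⟩ := GalDesc12.exists_cover k K X g₁ g₂ hg
    refine (W.openCoverOfIsOpenCover U hU).hom_ext _ _ fun σ => ?_
    show (U σ).ι ≫ g₁ ≫ f = (U σ).ι ≫ g₂ ≫ f
    rw [reassoc_of% (hU' σ), hinv σ]
  exact ⟨_, EffectiveEpi.fac (Curv2.bcFst k X K) f hd⟩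

/-- Galois action is functorial in products. -/
theorem galAct_galAct (k : Type u) [Field k] (K : Type u) [Field K] [Algebra k K] (X : Scheme.{u})
    [X.Over (Spec (CommRingCat.of k))] (σ : K ≃ₐ[k] K) (h : σ * σ = 1) :
    Curv2.galAct k X K σ ≫ Curv2.galAct k X K σ = 𝟙 _ := by
  apply pullback.hom_ext
  · rw [Category.assoc, GalDesc12.galAct_fst, GalDesc12.galAct_fst, Category.id_comp]
  · rw [Category.assoc, GalDesc12.galAct_snd, ← Category.assoc, GalDesc12.galAct_snd, Category.assoc,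
      ← Spec.map_comp, ← CommRingCat.ofHom_comp,
      show (σ : K →ₐ[k] K).toRingHom.comp (σ : K →ₐ[k] K).toRingHom = RingHom.id K from
        RingHom.ext fun x => AlgEquiv.congr_fun h x,
      CommRingCat.ofHom_id, Spec.map_id, Category.comp_id, Category.id_comp]

/-- A rational point of the line is determined by the underlying point. -/
theorem P1_section_ext {L : Type u} [Field L] (σ σ' : Spec (CommRingCat.of L) ⟶ CohB1.ProjSpace 1 L)
    (hσ : σ ≫ CohB1.ProjSpace.toSpec 1 L = 𝟙 _) (hσ' : σ' ≫ CohB1.ProjSpace.toSpec 1 L = 𝟙 _)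
    (h : σ (IsLocalRing.closedPoint L) = σ' (IsLocalRing.closedPoint L)) : σ = σ' := by
  have hid : Spec.map (CommRingCat.ofHom (algebraMap L L)) = 𝟙 _ := Spec.map_id (CommRingCat.of L)
  obtain ⟨m, π, hm, -, hmS, hπ⟩ := exists_normalize (n := 1) (by norm_num) (fun _ : Fin 1 => σ) (fun _ => hσ)
    (fun i j hij => absurd (Subsingleton.elim i j) hij)
  haveI := hm
  obtain ⟨s, hst⟩ : ∃ s : Fin 2, s ≠ π 0 := exists_ne (π 0)
  have h' : σ' ≫ m = stdPt L L (π 0) := by
    refine eq_stdPt hst _ (by rw [Category.assoc, hmS, hσ', hid]) ?_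
    intro hmem
    rw [Scheme.Hom.comp_apply, ← h] at hmem
    have hmem' : (σ ≫ m) (IsLocalRing.closedPoint L) ∈ Proj.basicOpen (CohB1.polyGrading 1 L) (MvPolynomial.X s) := hmem
    rw [hπ 0] at hmem'
    exact notMem_stdPt hst _ hmem'
  exact (cancel_mono m).1 ((hπ 0).trans h'.symm)

/-- A curve of genus zero with a point of degree two is a base change of a conic over `k(d, b)`. -/
theorem exists_descent_of_quadratic (k L L' : Type u) [Field k] [Field L] [Field L'] [Algebra k L] [CharZero L]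
    [Algebra L L'] [FiniteDimensional L L'] [IsGalois L L'] (hL' : Module.finrank L L' = 2)
    {C : Scheme.{u}} [C.Over (Spec (CommRingCat.of L))]
    (hC : ModFun.IsCurveOfGenus 0 (C ↘ Spec (CommRingCat.of L)))
    (ι : Spec (CommRingCat.of L') ⟶ C)
    (hι : ι ≫ (C ↘ Spec (CommRingCat.of L)) = Spec.map (CommRingCat.ofHom (algebraMap L L')))
    (hmono : ∀ φ : L' →+* L', Spec.map (CommRingCat.ofHom φ) ≫ ι = ι → φ = RingHom.id L') :
    ∃ K : IntermediateField k L, Algebra.trdeg k K ≤ 2 ∧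
      ∃ (Y : Scheme.{u}) (q : Y ⟶ Spec (CommRingCat.of K)) (e : C ⟶ Y),
        ModFun.IsCurveOfGenus 0 q ∧
        IsPullback e (C ↘ Spec (CommRingCat.of L)) q (Spec.map (CommRingCat.ofHom (algebraMap K L))) := by
  classical
  let f := C ↘ Spec (CommRingCat.of L)
  let pt := Spec.map (CommRingCat.ofHom (algebraMap L L'))
  haveI : IsProper f := hC.2.1
  -- the Galois group
  have hcard : Nat.card (L' ≃ₐ[L] L') = 2 := by rw [IsGalois.card_aut_eq_finrank, hL']
  obtain ⟨τ, hτ1⟩ : ∃ τ : L' ≃ₐ[L] L', τ ≠ 1 := by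
    by_contra h
    push Not at h
    haveI : Subsingleton (L' ≃ₐ[L] L') := ⟨fun a b => (h a).trans (h b).symm⟩
    rw [Nat.card_of_subsingleton (1 : L' ≃ₐ[L] L')] at hcard
    omega
  have hG : ∀ σ : L' ≃ₐ[L] L', σ = 1 ∨ σ = τ := fun σ => by
    haveI := Fintype.ofFinite (L' ≃ₐ[L] L')
    by_contra h
    push Not at h
    rw [Nat.card_eq_fintype_card] at hcard
    have h3 : ({1, τ, σ} : Finset (L' ≃ₐ[L] L')).card = 3 :=
      Finset.card_eq_three.2 ⟨1, τ, σ, hτ1.symm, h.1.symm, h.2.symm, rfl⟩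
    have := Finset.card_le_univ ({1, τ, σ} : Finset (L' ≃ₐ[L] L'))
    omega
  have hττ : τ * τ = 1 := by
    rcases hG (τ * τ) with h | h
    · exact h
    · exact absurd (mul_eq_left.1 h) hτ1
  have hfix : ∀ x : L', τ x = x → x ∈ Set.range (algebraMap L L') := fun x hx => by
    rw [IsGalois.mem_range_algebraMap_iff_fixed]
    intro σ
    rcases hG σ with rfl | rfl
    · rfl
    · exact hx
  let τr : L' →+* L' := (τ : L' →+* L')
  have hτr : τr.comp τr = RingHom.id L' := RingHom.ext fun x => AlgEquiv.congr_fun hττ x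
  let T := Spec.map (CommRingCat.ofHom τr)
  have hTT : T ≫ T = 𝟙 _ := by
    rw [← Spec.map_comp, ← CommRingCat.ofHom_comp, hτr]
    exact Spec.map_id _
  have hTpt : T ≫ pt = pt := by
    rw [← Spec.map_comp, ← CommRingCat.ofHom_comp]
    congr 2
    exact RingHom.ext fun x => τ.commutes x
  -- two rational points of the base change
  let P := Curv2.bc L C L'
  let G := Curv2.galAct L C L' τ
  have hGfst : G ≫ Curv2.bcFst L C L' = Curv2.bcFst L C L' := GalDesc12.galAct_fst L L' C τ
  have hGsnd : G ≫ Curv2.bcSnd L C L' = Curv2.bcSnd L C L' ≫ T := GalDesc12.galAct_snd L L' C τ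
  have hGG : G ≫ G = 𝟙 P := galAct_galAct L L' C τ hττ
  let σ₀ : Spec (CommRingCat.of L') ⟶ P := pullback.lift ι (𝟙 _) (by rw [Category.id_comp]; exact hι)
  let σ₁ : Spec (CommRingCat.of L') ⟶ P := T ≫ σ₀ ≫ G
  have hσ0 : σ₀ ≫ Curv2.bcSnd L C L' = 𝟙 _ := pullback.lift_snd _ _ _
  have hσ1 : σ₁ ≫ Curv2.bcSnd L C L' = 𝟙 _ := by
    simp only [σ₁, Category.assoc, hGsnd, reassoc_of% hσ0, hTT]
  have hC' : ModFun.IsCurveOfGenus 0 (Curv2.bcSnd L C L') :=
    isCurveOfGenus_of_isPullback (IsPullback.of_hasPullback f pt) hC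
  haveI : IsProper (Curv2.bcSnd L C L') := hC'.2.1
  -- coordinates
  obtain ⟨e, he⟩ := exists_iso_line (K := L') (Curv2.bcSnd L C L') hC' σ₀ hσ0
  have he' : e.inv ≫ Curv2.bcSnd L C L' = CohB1.ProjSpace.toSpec 1 L' := by rw [Iso.inv_comp_eq, he]
  have hne : σ₀ (IsLocalRing.closedPoint L') ≠ σ₁ (IsLocalRing.closedPoint L') := by
    intro h
    have hσ : σ₀ = σ₁ := by
      refine (cancel_mono e.hom).1 (P1_section_ext _ _ (by rw [Category.assoc, he, hσ0])
        (by rw [Category.assoc, he, hσ1]) ?_)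
      rw [Scheme.Hom.comp_apply, Scheme.Hom.comp_apply, h]
    have h1 := congrArg (· ≫ Curv2.bcFst L C L') hσ
    simp only [σ₁, Category.assoc, hGfst] at h1
    have h0 : σ₀ ≫ Curv2.bcFst L C L' = ι := pullback.lift_fst _ _ _
    rw [h0] at h1
    exact hτ1 (AlgEquiv.ext fun x => RingHom.congr_fun (hmono τr h1.symm) x)
  let pts : Fin 2 → (Spec (CommRingCat.of L') ⟶ CohB1.ProjSpace 1 L') := ![σ₀ ≫ e.hom, σ₁ ≫ e.hom]
  obtain ⟨m, π, hm, hπ, hmS, hmπ⟩ := exists_normalize (le_refl 2) pts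
    (fun i => by fin_cases i <;> simp [pts, he, hσ0, hσ1])
    (fun i j hij h => by
      have hinj : σ₀ (IsLocalRing.closedPoint L') = σ₁ (IsLocalRing.closedPoint L') := by
        fin_cases i <;> fin_cases j
        · exact absurd rfl hij
        · exact e.hom.homeomorph.injective (by simpa [pts] using h)
        · exact (e.hom.homeomorph.injective (by simpa [pts] using h)).symm
        · exact absurd rfl hij
      exact hne hinj)
  haveI := hm
  let θ : P ≅ CohB1.ProjSpace 1 L' := e ≪≫ asIso m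
  have hθ : θ.hom ≫ CohB1.ProjSpace.toSpec 1 L' = Curv2.bcSnd L C L' := by simp [θ, hmS, he]
  let g := θ.inv ≫ G ≫ θ.hom
  have hgS : g ≫ CohB1.ProjSpace.toSpec 1 L' = CohB1.ProjSpace.toSpec 1 L' ≫ T := by
    simp only [g, Category.assoc, hθ, hGsnd]
    rw [← Category.assoc, (Iso.inv_comp_eq θ).2 hθ.symm]
  have hgg : g ≫ g = 𝟙 _ := by
    simp only [g, Category.assoc, Iso.hom_inv_id_assoc, reassoc_of% hGG]
    exact θ.inv_hom_id
  have hp0 : σ₀ ≫ θ.hom = stdPt L' L' (π 0) := by
    have := hmπ 0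
    simpa [pts, θ] using this
  have hp1 : σ₁ ≫ θ.hom = stdPt L' L' (π 1) := by
    have := hmπ 1
    simpa [pts, θ] using this
  have hswap : ∀ z : Spec (CommRingCat.of L'), g (stdPt L' L' (π 0) z) = stdPt L' L' (π 1) z := by
    intro z
    have h1 : stdPt L' L' (π 0) ≫ g = T ≫ stdPt L' L' (π 1) := by
      rw [← hp0, ← hp1]
      simp [g, σ₁, reassoc_of% hTT]
    rw [← Scheme.Hom.comp_apply, h1, Scheme.Hom.comp_apply]
    exact congrArg _ (Subsingleton.elim (α := PrimeSpectrum L') _ _)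
  have h01 : g (stdPt L' L' 0 (IsLocalRing.closedPoint L')) = stdPt L' L' 1 (IsLocalRing.closedPoint L') := by
    have hπ01 : π 0 ≠ π 1 := hπ.ne (by decide)
    rcases (show π 0 = 0 ∨ π 0 = 1 by omega) with h | h
    · have h' : π 1 = 1 := by omega
      have := hswap (IsLocalRing.closedPoint L')
      rwa [h, h'] at this
    · have h' : π 1 = 0 := by omega
      have := congrArg g (hswap (IsLocalRing.closedPoint L'))
      rw [h, h', ← Scheme.Hom.comp_apply g g, hgg] at this
      exact this.symm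
  obtain ⟨b, c, hc, hb, hgeq⟩ := exists_eq_swapMap τr hτr g hgS hgg h01
  obtain ⟨b₀, hb₀⟩ := hfix b hb
  -- a square root
  obtain ⟨y, hy⟩ : ∃ y, τ y ≠ y := by
    by_contra h
    push Not at h
    exact hτ1 (AlgEquiv.ext h)
  let s := y - τ y
  have hs0 : s ≠ 0 := sub_ne_zero.2 fun h => hy h.symm
  have hsτ : τ s = -s := by
    have : τ (τ y) = y := AlgEquiv.congr_fun hττ y
    simp [s, map_sub, this]
  obtain ⟨d, hd⟩ := hfix (s * s) (by rw [map_mul, hsτ, neg_mul_neg])
  let K : IntermediateField k L := IntermediateField.adjoin k {d, b₀}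
  have htr : Algebra.trdeg k K ≤ 2 := by
    refine (trdeg_adjoin_le _).trans ?_
    refine (Cardinal.mk_insert_le).trans ?_
    rw [Cardinal.mk_singleton, one_add_one_eq_two]
  let dK : K := ⟨d, IntermediateField.subset_adjoin k _ (by simp)⟩
  let bK : K := ⟨b₀, IntermediateField.subset_adjoin k _ (by simp)⟩
  -- the quadratic extension of `K`
  let τK : L' →ₐ[K] L' :=
    { τr with commutes' := fun x => τ.commutes (algebraMap K L x) }
  have hsint : IsIntegral K s := by
    refine ⟨Polynomial.X ^ 2 - Polynomial.C dK, Polynomial.monic_X_pow_sub_C dK two_ne_zero, ?_⟩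
    rw [Polynomial.eval₂_sub, Polynomial.eval₂_X_pow, Polynomial.eval₂_C, sub_eq_zero, sq]
    exact hd.symm
  let K' := IntermediateField.adjoin K ({s} : Set L')
  haveI : FiniteDimensional K K' := IntermediateField.adjoin.finiteDimensional hsint
  have hfin : Module.finrank K K' ≤ 2 := by
    rw [IntermediateField.adjoin.finrank hsint]
    refine le_of_le_of_eq (Polynomial.natDegree_le_natDegree
      (minpoly.min K s (Polynomial.monic_X_pow_sub_C dK two_ne_zero) ?_))
      (Polynomial.natDegree_X_pow_sub_C (n := 2) (r := dK))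
    rw [map_sub, Polynomial.aeval_X_pow, Polynomial.aeval_C, sub_eq_zero, sq]
    exact hd.symm
  have hmem : ∀ x : K', τK (x : L') ∈ K' := by
    intro x
    have hmap : K'.map τK ≤ K' := by
      rw [IntermediateField.adjoin_map, IntermediateField.adjoin_le_iff]
      rintro _ ⟨z, hz, rfl⟩
      rw [Set.mem_singleton_iff] at hz
      subst hz
      show τ s ∈ K'
      rw [hsτ]
      exact neg_mem (IntermediateField.mem_adjoin_simple_self K s)
    exact hmap ⟨x, x.2, rfl⟩
  let τh : K' →ₐ[K] K' := (τK.comp K'.val).codRestrict K'.toSubalgebra hmem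
  have hτh : τh.comp τh = AlgHom.id K K' := AlgHom.ext fun x => Subtype.ext (AlgEquiv.congr_fun hττ (x : L'))
  let τ₀ : K' ≃ₐ[K] K' := AlgEquiv.ofAlgHom τh τh hτh hτh
  have hτ₀ : ∀ x : K', ((τ₀ x : K') : L') = τ (x : L') := fun x => rfl
  let sK : K' := ⟨s, IntermediateField.mem_adjoin_simple_self K s⟩
  have hτ₀1 : τ₀ ≠ 1 := by
    intro h
    have h' := congrArg (fun φ : K' ≃ₐ[K] K' => ((φ sK : K') : L')) h
    simp only [hτ₀, AlgEquiv.one_apply] at h'
    change τ s = s at h'
    rw [hsτ, neg_eq_iff_add_eq_zero, ← two_mul] at h'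
    haveI : CharZero L' := charZero_of_injective_algebraMap (algebraMap L L').injective
    exact hs0 ((mul_eq_zero.1 h').resolve_left two_ne_zero)
  have hcard' : Fintype.card (K' ≃ₐ[K] K') = 2 ∧ Module.finrank K K' = 2 := by
    have h1 : Fintype.card (K' ≃ₐ[K] K') ≤ Module.finrank K K' := AlgEquiv.card_le
    have h2 : 2 ≤ Fintype.card (K' ≃ₐ[K] K') := Fintype.one_lt_card_iff.2 ⟨τ₀, 1, hτ₀1⟩
    omega
  haveI : IsGalois K K' :=
    IsGalois.of_card_aut_eq_finrank K K' (by rw [Nat.card_eq_fintype_card, hcard'.1, hcard'.2])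
  have hG' : ∀ σ : K' ≃ₐ[K] K', σ = 1 ∨ σ = τ₀ := fun σ => by
    by_contra h
    push Not at h
    have h3 : ({1, τ₀, σ} : Finset (K' ≃ₐ[K] K')).card = 3 :=
      Finset.card_eq_three.2 ⟨1, τ₀, σ, hτ₀1.symm, h.1.symm, h.2.symm, rfl⟩
    have := Finset.card_le_univ ({1, τ₀, σ} : Finset (K' ≃ₐ[K] K'))
    omega
  let b' : K' := algebraMap K K' bK
  have hb' : algebraMap K' L' b' = b := hb₀
  have hb0 : b' ≠ 0 := by
    intro h
    rw [h, map_zero] at hb'
    rw [← hb', mul_zero] at hc
    exact zero_ne_one hc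
  have hb'τ : τ₀ b' = b' := τ₀.commutes bK
  have hc' : τ₀ b'⁻¹ * b' = 1 := by rw [map_inv₀, hb'τ, inv_mul_cancel₀ hb0]
  obtain ⟨Y, q, p, hpinv, hsq, hY⟩ := exists_model τ₀ hG' hτ₀1 b' b'⁻¹ hc' hb'τ
  refine ⟨K, htr, Y, q, ?_⟩
  let incl : K' →+* L' := algebraMap K' L'
  have hincl : τr.comp incl = incl.comp (τ₀ : K' →+* K') := RingHom.ext fun x => (hτ₀ x).symm
  let M := ProjSpace.map 1 incl
  have hnat : g ≫ M = M ≫ swapMap (τ₀ : K' →+* K') b' b'⁻¹ hc' := by
    rw [hgeq]
    exact swapMap_natural incl τr (τ₀ : K' →+* K') hincl b c hc b' b'⁻¹ hc' hb'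
  let F := θ.hom ≫ M ≫ p
  have hFinv : ∀ σ : L' ≃ₐ[L] L', Curv2.galAct L C L' σ ≫ F = F := by
    intro σ
    rcases hG σ with h | h
    · subst h
      have : Curv2.galAct L C L' 1 = 𝟙 _ := by
        apply pullback.hom_ext
        · rw [GalDesc12.galAct_fst, Category.id_comp]
        · rw [GalDesc12.galAct_snd, Category.id_comp]
          exact (congrArg (Curv2.bcSnd L C L' ≫ ·) (Spec.map_id _)).trans (Category.comp_id _)
      rw [this, Category.id_comp]
    · rw [h]
      show G ≫ θ.hom ≫ M ≫ p = θ.hom ≫ M ≫ p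
      have : G ≫ θ.hom = θ.hom ≫ g := by simp [g]
      rw [reassoc_of% this, reassoc_of% hnat, hpinv]
  obtain ⟨e₀, he₀⟩ := exists_desc_of_galAct L L' C F hFinv
  refine ⟨e₀, hY, ?_⟩
  -- the big square
  let res := Spec.map (CommRingCat.ofHom (algebraMap K L))
  have hbig : IsPullback F (Curv2.bcSnd L C L') q (pt ≫ res) := by
    have h1 := (ProjSpace.isPullback_map 1 incl).paste_horiz hsq
    have h2 : Spec.map (CommRingCat.ofHom incl) ≫ Spec.map (CommRingCat.ofHom (algebraMap K K')) = pt ≫ res := by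
      rw [← Spec.map_comp, ← Spec.map_comp, ← CommRingCat.ofHom_comp, ← CommRingCat.ofHom_comp]
      rfl
    rw [h2] at h1
    exact h1.of_iso θ.symm (Iso.refl _) (Iso.refl _) (Iso.refl _) (by simp [F, M]) (by
      rw [Iso.refl_hom, Category.comp_id, Iso.symm_hom, eq_comm, Iso.inv_comp_eq, hθ]) (by simp) (by simp)
  have hw : e₀ ≫ q = f ≫ res := by
    haveI : Epi (Curv2.bcFst L C L') := by
      haveI := GalDesc12.effectiveEpi_bcFst L L' C
      infer_instance
    rw [← cancel_epi (Curv2.bcFst L C L'), reassoc_of% he₀, hbig.w, ← Category.assoc, ← Category.assoc,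
      pullback.condition]
  let u : C ⟶ pullback q res := pullback.lift e₀ f hw
  have hu1 : u ≫ pullback.fst q res = e₀ := pullback.lift_fst _ _ _
  have hu2 : u ≫ pullback.snd q res = f := pullback.lift_snd _ _ _
  let Q' := pullback (pullback.snd q res) pt
  have hQ' : IsPullback (pullback.fst (pullback.snd q res) pt ≫ pullback.fst q res)
      (pullback.snd (pullback.snd q res) pt) q (pt ≫ res) :=
    (IsPullback.of_hasPullback _ _).paste_horiz (IsPullback.of_hasPullback _ _)
  let u' : P ⟶ Q' := pullback.lift (Curv2.bcFst L C L' ≫ u) (Curv2.bcSnd L C L') (by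
    rw [Category.assoc, hu2]; exact pullback.condition)
  have hu'iso : IsIso u' := by
    let iso := hbig.isoIsPullback _ _ hQ'
    have : u' = iso.hom := by
      refine hQ'.hom_ext ?_ ?_
      · rw [IsPullback.isoIsPullback_hom_fst, pullback.lift_fst_assoc, Category.assoc, hu1, he₀]
      · rw [IsPullback.isoIsPullback_hom_snd, pullback.lift_snd]
    rw [this]
    infer_instance
  have hsqu : IsPullback u' (Curv2.bcFst L C L') (pullback.fst (pullback.snd q res) pt) u := by
    refine IsPullback.of_right ?_ (pullback.lift_fst _ _ _)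
      (IsPullback.of_hasPullback (pullback.snd q res) pt).flip
    rw [pullback.lift_snd, hu2]
    exact (IsPullback.of_hasPullback f pt).flip
  haveI hs : Surjective pt :=
    ⟨Function.surjective_to_subsingleton (α := ↥(Spec (CommRingCat.of L'))) (β := PrimeSpectrum L) _⟩
  haveI hf : Flat pt :=
    (HasRingHomProperty.Spec_iff (P := @Flat)).2 (RingHom.flat_algebraMap_iff.2 inferInstance)
  have hiso : IsIso u := by
    have hQ : (@Surjective ⊓ @Flat ⊓ @QuasiCompact : MorphismProperty Scheme.{u})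
        (pullback.fst (pullback.snd q res) pt) := ⟨⟨inferInstance, inferInstance⟩, inferInstance⟩
    exact MorphismProperty.of_isPullback_of_descendsAlong (P := MorphismProperty.isomorphisms Scheme.{u})
      hsqu hQ hu'iso
  exact IsPullback.of_iso_pullback ⟨hw⟩ (asIso u) hu1 hu2

end Groth.Agent.ConicDesc28
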