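/-
The stack of curves of genus zero has essential dimension at most two.
-/
import Groth.Agent.Lib.ConicDesc28.Main
import Groth.Agent.Lib.WeilH13.Count
import Groth.Agent.Lib.GeomIrr18.Res

set_option autoImplicit false
set_option linter.style.haveILetI false
set_option backward.isDefEq.respectTransparency false
set_option backward.isDefEq.respectTransparency.types false
set_option maxHeartbeats 1000000

universe u

open CategoryTheory CategoryTheory.Limits AlgebraicGeometry

namespace Groth.Agent.ConicDesc28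

open Groth.Agent.EssDim28

attribute [local instance] Curv2.resAlgebra

/-- Descent of a curve of genus zero. -/
theorem exists_descent_genus_zero (k L : Type u) [Field k] [Field L] [Algebra k L] [CharZero k]
    {C : Scheme.{u}} (f : C ⟶ Spec (CommRingCat.of L)) (hC : ModFun.IsCurveOfGenus 0 f) :
    ∃ K : IntermediateField k L, Algebra.trdeg k K ≤ 2 ∧
      ∃ (Y : Scheme.{u}) (q : Y ⟶ Spec (CommRingCat.of K)) (e : C ⟶ Y),
        ModFun.IsCurveOfGenus 0 q ∧ IsPullback e f q (Spec.map (CommRingCat.ofHom (algebraMap K L))) := by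
  letI : C.Over (Spec (CommRingCat.of L)) := ⟨f⟩
  haveI : CharZero L := charZero_of_injective_algebraMap (algebraMap k L).injective
  obtain ⟨hsm, hpr, hgi, hfib⟩ := hC
  haveI : IsProper (C ↘ Spec (CommRingCat.of L)) := hpr
  haveI : IsProper f := hpr
  haveI : Smooth (C ↘ Spec (CommRingCat.of L)) := hsm
  haveI : GeometricallyIrreducible (C ↘ Spec (CommRingCat.of L)) := hgi
  haveI : GeometricallyConnected (C ↘ Spec (CommRingCat.of L)) :=
    Groth.Agent.GeomIrr.geometricallyConnected_of_irreducible _
  haveI : IsIntegral C := VB17.isIntegral_of_smooth (k := L)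
  obtain ⟨hd, hg⟩ := hfib (AlgebraicClosure L) (Spec.map (CommRingCat.ofHom (algebraMap L (AlgebraicClosure L))))
    _ _ _ (IsPullback.of_hasPullback f (Spec.map (CommRingCat.ofHom (algebraMap L (AlgebraicClosure L)))))
  obtain ⟨hdim, h1⟩ := invariants_of_fibre f (AlgebraicClosure L) hd hg
  have hgen : Curv2.genus L C = 0 := Module.finrank_zero_of_subsingleton
  obtain ⟨x, hx, hdeg⟩ := exists_point_degree_le_two L C hdim hgen
  haveI hfinx : Module.Finite L (C.residueField x) := WeilH13.finite_residueField_of_isClosed _ x hx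
  have hpos : 0 < Module.finrank L (C.residueField x) := Module.finrank_pos
  have hres : Spec.map (CommRingCat.ofHom (algebraMap L (C.residueField x))) = C.fromSpecResidueField x ≫ f :=
    GeomIrr.spec_resMap L C x
  by_cases h2 : Module.finrank L (C.residueField x) = 1
  · -- a rational point: the curve is the line
    have hb : Function.Bijective (Algebra.ofId L (C.residueField x)) := by
      refine ⟨(algebraMap L _).injective, fun y => ?_⟩
      have htop : (⊥ : Subalgebra L (C.residueField x)) = ⊤ := Subalgebra.bot_eq_top_of_finrank_eq_one h2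
      exact Algebra.mem_bot.1 (htop ▸ Algebra.mem_top (x := y))
    let eres : L ≃ₐ[L] C.residueField x := AlgEquiv.ofBijective _ hb
    let σ : Spec (CommRingCat.of L) ⟶ C :=
      Spec.map (CommRingCat.ofHom eres.symm.toRingHom) ≫ C.fromSpecResidueField x
    have hσ : σ ≫ f = 𝟙 _ := by
      rw [Category.assoc, ← hres, ← Spec.map_comp, ← CommRingCat.ofHom_comp,
        show eres.symm.toRingHom.comp (algebraMap L (C.residueField x)) = RingHom.id L from
          RingHom.ext fun r => eres.symm.commutes r]
      exact Spec.map_id _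
    obtain ⟨e, he⟩ := exists_iso_line (K := L) f ⟨hsm, hpr, hgi, hfib⟩ σ hσ
    refine ⟨⊥, ?_, CohB1.ProjSpace 1 _, CohB1.ProjSpace.toSpec 1 _,
      e.hom ≫ ProjSpace.map 1 (algebraMap (⊥ : IntermediateField k L) L), isCurveOfGenus_P1 _, ?_⟩
    · haveI : Algebra.IsAlgebraic k (⊥ : IntermediateField k L) := Algebra.IsAlgebraic.of_finite k _
      rw [trdeg_eq_zero]
      exact zero_le
    · have h1 : IsPullback e.hom f (CohB1.ProjSpace.toSpec 1 L) (𝟙 _) :=
        IsPullback.of_horiz_isIso ⟨by rw [he, Category.comp_id]⟩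
      have h3 := h1.paste_horiz (ProjSpace.isPullback_map 1 (algebraMap (⊥ : IntermediateField k L) L))
      rwa [Category.id_comp] at h3
  · have h2' : Module.finrank L (C.residueField x) = 2 := by omega
    haveI : Algebra.IsQuadraticExtension L (C.residueField x) := { finrank_eq_two' := h2' }
    exact exists_descent_of_quadratic k L (C.residueField x) h2' (C := C) ⟨hsm, hpr, hgi, hfib⟩
      (C.fromSpecResidueField x) hres.symm fun φ hφ => by
        have h : Spec.map (CommRingCat.ofHom φ) = Spec.map (𝟙 (C.residueField x)) := by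
          rw [← cancel_mono (C.fromSpecResidueField x), Spec.map_id]
          exact hφ.trans (Category.id_comp _).symm
        exact congrArg CommRingCat.Hom.hom (Spec.map_injective h)

theorem edSt_mgn_genus_zero_le_two (k : Type u) [Field k] [CharZero k]
    [FibCat.IsFibGrpd (CurvSt.Mgn (Spec (CommRingCat.of k)) 0 0).p] :
    EssDim.edSt (CurvSt.Mgn (Spec (CommRingCat.of k)) 0 0) ≠ ⊥ ∧
      EssDim.edSt (CurvSt.Mgn (Spec (CommRingCat.of k)) 0 0) ≤ ((2 : ℕ) : WithBot ℕ∞) := by
  refine ⟨?_, ?_⟩
  · refine ne_of_gt (lt_of_lt_of_le ?_ (EssDim.edAt_le_ed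
      (P := Gerb.isoClPsh (CurvSt.Mgn (Spec (CommRingCat.of k)) 0 0)) (L := k)
      (Quot.mk _ ⟨lineObj (k := k) (n := 0) k Fin.elim0 (fun i => i.elim0), rfl⟩)))
    exact WithBot.bot_lt_coe _
  · refine iSup_le fun L => iSup_le fun _ => iSup_le fun _ => iSup_le fun ξ => ?_
    obtain ⟨⟨⟨A, hA⟩, hbase⟩, rfl⟩ := Quot.exists_rep ξ
    obtain ⟨base, C, f, sect, sect_f⟩ := A
    change base = SGA7.pt (K := k) L at hbase
    subst hbase
    obtain ⟨hcurve, hdisj⟩ := hA
    obtain ⟨K, htr, Y, q, e, hY, hcart⟩ := exists_descent_genus_zero k L f hcurve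
    let B : (CurvSt.Mgn (Spec (CommRingCat.of k)) 0 0).obj :=
      ⟨{ base := SGA7.pt (K := k) K, C := Y, f := q, sect := fun i => i.elim0, sect_f := fun i => i.elim0 },
        hY, fun i => i.elim0⟩
    let A₀ : (CurvSt.Mgn (Spec (CommRingCat.of k)) 0 0).obj :=
      ⟨⟨SGA7.pt (K := k) L, C, f, sect, sect_f⟩, hcurve, hdisj⟩
    let φ : A₀ ⟶ B := ObjectProperty.homMk
      (X := A₀) (Y := B)
      { base := EssDim.resPt K.val
        top := e
        cart := hcart
        w_sect := fun i => i.elim0 }
    have hlift : (CurvSt.Mgn (Spec (CommRingCat.of k)) 0 0).p.IsHomLift (EssDim.resPt K.val) φ :=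
      IsHomLift.map (CurvSt.Mgn (Spec (CommRingCat.of k)) 0 0).p φ
    refine (WithBot.coe_le_coe.mpr (EssDim.edAt_le_of_descends
      ((EssDim.descends_isoCl_iff _ ⟨A₀, rfl⟩ K).2 ⟨⟨B, rfl⟩, φ, hlift⟩))).trans ?_
    have h := OrderHomClass.mono Cardinal.toENat htr
    refine (WithBot.coe_le_coe.mpr h).trans ?_
    simp

end Groth.Agent.ConicDesc28
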